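import Cfsg.Agent.Lib.Chev.Checks
import Cfsg.Prelude.Def_ChevD4

/-! Generated packed tables for type D4, checked by the kernel. -/

set_option autoImplicit false

namespace Cfsg.Agent.Lib.Chev.D4

def rowTab_0 (r : ℕ) : ℕ := (bif Nat.blt r 8 then (bif Nat.blt r 4 then (bif Nat.blt r 2 then (bif Nat.blt r 1 then 0x30a509508307000505304303502000000000000000000000000000000000000000000 else 0x30f00030c30b000307506000000000504503000000501000000000000000000000000000) else (bif Nat.blt r 3 then 0x51030d00000030b308000506000000505000502000000301000000000000000000000000 else 0x51130e00000030c309000000506000000505000502000000301000000000000000000000)) else (bif Nat.blt r 6 then (bif Nat.blt r 5 then 0x31200030e30d00030a000000000506000000504503000000000501000000000000000000 else 0x31231131030f000000000000000000000000000505504503502000000000000000000) else (bif Nat.blt r 7 then 0x51451300000000000000030c30b000509508000000000000000000302301000000000000 else 0x31500051300000000030d00000030b50a000507000000000000000303000501000000000))) else (bif Nat.blt r 12 then (bif Nat.blt r 10 then (bif Nat.blt r 9 then 0x31600000051300000030e00000030c00050a000507000000000000304000000501000000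 else 0x51700000000051300000030e30d000000000509508000000000000305000000000301000) else (bif Nat.blt r 11 then 0x51551400000000051050f000000000000000000308307000000000303302000000000 else 0x51600051400000051100050f000000000000000309000307000000304000302000000)) else (bif Nat.blt r 14 then (bif Nat.blt r 13 then 0x51700051500000051200051000000000000000030a000308000000305000303000 else 0x51751600000000051251100000000000000000030a309000000000305304000) else (bif Nat.blt r 15 then 0x51800000000051400000000000031131000000000050c50b000000306000000000302 else 0x31800000051500000000000031200030f00050d00000050b000000306000000503))))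
def rowTab_16 (r : ℕ) : ℕ := (bif Nat.blt r 20 then (bif Nat.blt r 18 then (bif Nat.blt r 17 then 0x31800051600000000000000031200030f50e00000050c000000000306000504 else 0x51851700000000000000000031131000050e50d000000000000000306305) else (bif Nat.blt r 19 then 0x31731631531400000000000000000000000000050a509508507000 else 0x31800000000031631500000031300000000050f00050c50b000507)) else (bif Nat.blt r 22 then (bif Nat.blt r 21 then 0x51800000031700031400000031300000051050d00000050b308 else 0x51800000031700031400000031300051150e00000050c309) else (bif Nat.blt r 23 then 0x31800000031631500000000031351200050e50d00050a else 0x31751651531400051231131050f000)))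
def rowTab (r : ℕ) : ℕ := (bif Nat.blt r 16 then rowTab_0 r else rowTab_16 r)
def reflTab (r : ℕ) : ℕ := (bif Nat.blt r 2 then (bif Nat.blt r 1 then 0x1711100f0e05161514130d0c0b0a04030201120908070600 else 0x161715141213110d0c09100f08070e0b0a06040503020001) else (bif Nat.blt r 3 then 0x1714131615120f0e11100a0c0b0d07060908050201040300 else 0x17151613141210110e0f0d0b0c0a08090607050304010200))
def etaTab (r : ℕ) : ℕ := (bif Nat.blt r 2 then (bif Nat.blt r 1 then 0x7c3e0 else 0x887e11) else (bif Nat.blt r 3 then 0x6324c6 else 0x52994a))
def cartTab (r : ℕ) : ℕ := (bif Nat.blt r 2 then (bif Nat.blt r 1 then 0x89999a777788889999677778 else 0x978897899a77996778978897) else (bif Nat.blt r 3 then 0x8997789977a8869977899778 else 0x89797897978a689797897978))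
def coroTab_0 (r : ℕ) : ℕ := (bif Nat.blt r 8 then (bif Nat.blt r 4 then (bif Nat.blt r 2 then (bif Nat.blt r 1 then 0x7767 else 0x7777) else (bif Nat.blt r 3 then 0x8777 else 0x7877)) else (bif Nat.blt r 6 then (bif Nat.blt r 5 then 0x8877 else 0x8887) else (bif Nat.blt r 7 then 0x7778 else 0x8778))) else (bif Nat.blt r 12 then (bif Nat.blt r 10 then (bif Nat.blt r 9 then 0x7878 else 0x8878) else (bif Nat.blt r 11 then 0x8788 else 0x7888)) else (bif Nat.blt r 14 then (bif Nat.blt r 13 then 0x9888 else 0x8988) else (bif Nat.blt r 15 then 0x8898 else 0x9898))))
def coroTab_16 (r : ℕ) : ℕ := (bif Nat.blt r 20 then (bif Nat.blt r 18 then (bif Nat.blt r 17 then 0x8998 else 0x9998) else (bif Nat.blt r 19 then 0x8889 else 0x8899)) else (bif Nat.blt r 22 then (bif Nat.blt r 21 then 0x9899 else 0x8999) else (bif Nat.blt r 23 then 0x9999 else 0x99a9)))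
def coroTab (r : ℕ) : ℕ := (bif Nat.blt r 16 then coroTab_0 r else coroTab_16 r)
def coefTab_0 (r : ℕ) : ℕ := (bif Nat.blt r 8 then (bif Nat.blt r 4 then (bif Nat.blt r 2 then (bif Nat.blt r 1 then 0x7767 else 0x7777) else (bif Nat.blt r 3 then 0x8777 else 0x7877)) else (bif Nat.blt r 6 then (bif Nat.blt r 5 then 0x8877 else 0x8887) else (bif Nat.blt r 7 then 0x7778 else 0x8778))) else (bif Nat.blt r 12 then (bif Nat.blt r 10 then (bif Nat.blt r 9 then 0x7878 else 0x8878) else (bif Nat.blt r 11 then 0x8788 else 0x7888)) else (bif Nat.blt r 14 then (bif Nat.blt r 13 then 0x9888 else 0x8988) else (bif Nat.blt r 15 then 0x8898 else 0x9898))))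
def coefTab_16 (r : ℕ) : ℕ := (bif Nat.blt r 20 then (bif Nat.blt r 18 then (bif Nat.blt r 17 then 0x8998 else 0x9998) else (bif Nat.blt r 19 then 0x8889 else 0x8899)) else (bif Nat.blt r 22 then (bif Nat.blt r 21 then 0x9899 else 0x8999) else (bif Nat.blt r 23 then 0x9999 else 0x99a9)))
def coefTab (r : ℕ) : ℕ := (bif Nat.blt r 16 then coefTab_0 r else coefTab_16 r)

/-- Fast tables of type D4. -/
def fast : Fast where
  l := 4
  n := 24
  wid := 12
  row := rowTab
  refl := reflTab
  eta := etaTab
  negs := 0x102030405060708090a0b0c0d0e0f1011121314151617
  simples := 0xc0d0e12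
  cart := cartTab
  coro := coroTab
  coef := coefTab
  keys := 0x4000000088214000000084214000000084204000000084014000000084004000000080004000000004214000000004204000000004014000000004004000000000204000000000013fffffffffff3fffffffffe03ffffffffc003ffffffffbff3ffffffffbe03ffffffffbdf3fffffff80003fffffff7c003fffffff7bff3fffffff7be03fffffff7bdf3fffffff77df

theorem table_checks : tableChecks Cfsg.Lie.chevD4 fast = true := by decide +kernel

theorem table_eq : TableEq Cfsg.Lie.chevD4 fast := tableChecks_sound table_checks

theorem root_checks : rootChecks Cfsg.Lie.chevD4 fast = true := by decide +kernel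

theorem trans_check_0 : transChecks Cfsg.Lie.chevD4 fast 0 = true := by decide +kernel

theorem trans_check_1 : transChecks Cfsg.Lie.chevD4 fast 1 = true := by decide +kernel

theorem trans_check_2 : transChecks Cfsg.Lie.chevD4 fast 2 = true := by decide +kernel

theorem trans_check_3 : transChecks Cfsg.Lie.chevD4 fast 3 = true := by decide +kernel

theorem trans_checks : ∀ i < 4, transChecks Cfsg.Lie.chevD4 fast i = true
  | 0, _ => trans_check_0
  | 1, _ => trans_check_1
  | 2, _ => trans_check_2
  | 3, _ => trans_check_3
  | n + 4, h => absurd h (by omega)

theorem root_data : RootData Cfsg.Lie.chevD4 fast.aux :=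
  rootData_of_checks table_eq root_checks trans_checks (by decide +kernel)

theorem engine_checks : engineChecks Cfsg.Lie.chevD4 fast = true := by decide +kernel

theorem checked : Checked Cfsg.Lie.chevD4 fast where
  tables := table_eq
  root := root_data
  refl := reflEq_of_checks table_eq root_checks
  chain_size := by decide +kernel
  engine := engine_checks

end Cfsg.Agent.Lib.Chev.D4
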