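import Cfsg.Agent.Lib.Chev.Checks
import Cfsg.Prelude.Def_ChevG2

/-! Generated packed tables for type G2, checked by the kernel. -/

set_option autoImplicit false

namespace Cfsg.Agent.Lib.Chev.G2

def rowTab (r : ℕ) : ℕ := (bif Nat.blt r 6 then (bif Nat.blt r 3 then (bif Nat.blt r 1 then 0x306000000304000000503000000000000000502000000000000000000000000000000000000000000000000000000 else (bif Nat.blt r 2 then 0x307000000000000000305000000000000000503000000000000000501000000000000000000000000000000000000000000000 else 0x302305309501504308000000000000702605000101204000000000000000000000000702000000701000000000000000000000000000)) else (bif Nat.blt r 4 then 0x30650850a000000000000106608000000000000000106501303505000000000000701203000000000000000101000000000000000000 else (bif Nat.blt r 5 then 0x50730950a000707209000000107000000000000000000302503504000000000000102603000000102000000000000000000 else 0x50b000000000000000000000000508000000000000000000000000000000000304000000000000000000000000301000000000))) else (bif Nat.blt r 9 then (bif Nat.blt r 7 then 0x50c000000000000000000000000509000000000000000000000000000000000305000000000000000000000000302 else (bif Nat.blt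 r 8 then 0x70b00010b20a00000000050b50a309000000000000000000000000706000706604306304303000000000 else 0x70c00000000000070c60a00000000030c30a308000000707000000000000107205000000000507505303)) else (bif Nat.blt r 10 then 0x10c00000010b00000000000000000000010c60900070b20800000000030c50950550b308504 else (bif Nat.blt r 11 then 0x30c00000000000000030a000000000000000508000000000000000506 else 0x30b00000000000000030a000000509000000507000000000))))
def reflTab (r : ℕ) : ℕ := (bif Nat.blt r 1 then 0xb060809040a010702030500 else 0xa0b09070805060304020001)
def etaTab (r : ℕ) : ℕ := (bif Nat.blt r 1 then 0x696 else 0x969)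
def cartTab (r : ℕ) : ℕ := (bif Nat.blt r 1 then 0x8b97a5b69758 else 0x97897a697897)
def coroTab (r : ℕ) : ℕ := (bif Nat.blt r 6 then (bif Nat.blt r 3 then (bif Nat.blt r 1 then 0x67 else (bif Nat.blt r 2 then 0x77 else 0x56)) else (bif Nat.blt r 4 then 0x57 else (bif Nat.blt r 5 then 0x87 else 0x78))) else (bif Nat.blt r 9 then (bif Nat.blt r 7 then 0x98 else (bif Nat.blt r 8 then 0x89 else 0xb9)) else (bif Nat.blt r 10 then 0xba else (bif Nat.blt r 11 then 0x99 else 0xa9))))
def coefTab (r : ℕ) : ℕ := (bif Nat.blt r 6 then (bif Nat.blt r 3 then (bif Nat.blt r 1 then 0x65 else (bif Nat.blt r 2 then 0x75 else 0x76)) else (bif Nat.blt r 4 then 0x77 else (bif Nat.blt r 5 then 0x87 else 0x78))) else (bif Nat.blt r 9 then (bif Nat.blt r 7 then 0x98 else (bif Nat.blt r 8 then 0x89 else 0x99)) else (bif Nat.blt r 10 then 0x9a else (bif Nat.blt r 11 then 0x9b else 0xab))))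

/-- Fast tables of type G2. -/
def fast : Fast where
  l := 2
  n := 12
  wid := 36
  row := rowTab
  refl := reflTab
  eta := etaTab
  negs := 0x102030405060708090a0b
  simples := 0x607
  cart := cartTab
  coro := coroTab
  coef := coefTab
  keys := 0x4000000000624000000000614000000000414000000000214000000000204000000000013fffffffffff3fffffffffe03fffffffffdf3fffffffffbf3fffffffff9f3fffffffff9e

theorem table_checks : tableChecks Cfsg.Lie.chevG2 fast = true := by decide +kernel

theorem table_eq : TableEq Cfsg.Lie.chevG2 fast := tableChecks_sound table_checks

theorem root_checks : rootChecks Cfsg.Lie.chevG2 fast = true := by decide +kernel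

theorem trans_check_0 : transChecks Cfsg.Lie.chevG2 fast 0 = true := by decide +kernel

theorem trans_check_1 : transChecks Cfsg.Lie.chevG2 fast 1 = true := by decide +kernel

theorem trans_checks : ∀ i < 2, transChecks Cfsg.Lie.chevG2 fast i = true
  | 0, _ => trans_check_0
  | 1, _ => trans_check_1
  | n + 2, h => absurd h (by omega)

theorem root_data : RootData Cfsg.Lie.chevG2 fast.aux :=
  rootData_of_checks table_eq root_checks trans_checks (by decide +kernel)

theorem engine_checks : engineChecks Cfsg.Lie.chevG2 fast = true := by decide +kernel

theorem checked : Checked Cfsg.Lie.chevG2 fast where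
  tables := table_eq
  root := root_data
  refl := reflEq_of_checks table_eq root_checks
  chain_size := by decide +kernel
  engine := engine_checks

end Cfsg.Agent.Lib.Chev.G2
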